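import Groth.Prelude.Def_Pi1

/-!
# Descent of module properties along universally injective ring maps

Elementary approach: a linear system over `R` that is solvable over `S` is solvable over `R`.
-/

set_option autoImplicit false
universe u
open scoped TensorProduct

namespace Groth.Agent.UnivInj

variable {R S : Type u} [CommRing R] [CommRing S] [Algebra R S]

/-- If `1 ⊗ b` is in the range of `S ⊗ Ψ`, then `b` is in the range of `Ψ`. -/
lemma mem_range_of_one_tmul_mem_range (h : Pi1.UnivInjective R S) {A B : Type u}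
    [AddCommGroup A] [Module R A] [AddCommGroup B] [Module R B] (Ψ : A →ₗ[R] B) (b : B)
    (hb : (1 : S) ⊗ₜ[R] b ∈ LinearMap.range (Ψ.lTensor S)) : b ∈ LinearMap.range Ψ := by
  obtain ⟨x, hx⟩ := hb
  let q := (LinearMap.range Ψ).mkQ
  have h0 : (1 : S) ⊗ₜ[R] q b = 0 := by
    have hz : q.comp Ψ = 0 := (LinearMap.range_mkQ_comp Ψ)
    have := congrArg (q.lTensor S) hx
    rw [← LinearMap.lTensor_comp_apply, hz, LinearMap.lTensor_tmul] at this
    simpa using this.symm
  have h1 : q b ⊗ₜ[R] (1 : R) = 0 := by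
    apply h (B ⧸ LinearMap.range Ψ)
    have := congrArg (TensorProduct.comm R S (B ⧸ LinearMap.range Ψ)) h0
    simpa using this
  have h2 : q b = 0 := by simpa using congrArg (TensorProduct.rid R _) h1
  simpa [q, Submodule.mkQ_apply, Submodule.Quotient.mk_eq_zero] using h2

/-- Surjectivity descends. -/
lemma surjective_of_lTensor_surjective (h : Pi1.UnivInjective R S) {A B : Type u}
    [AddCommGroup A] [Module R A] [AddCommGroup B] [Module R B] (Ψ : A →ₗ[R] B)
    (hΨ : Function.Surjective (Ψ.lTensor S)) : Function.Surjective Ψ :=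
  fun b ↦ mem_range_of_one_tmul_mem_range h Ψ b (hΨ _)

/-- Flatness descends. -/
lemma flat (h : Pi1.UnivInjective R S) (M : Type u) [AddCommGroup M] [Module R M]
    [Module.Flat S (S ⊗[R] M)] : Module.Flat R M := by
  classical
  refine Module.Flat.of_forall_isTrivialRelation fun {l} {r} {m} hrel ↦ ?_
  have hrel' : ∑ i, algebraMap R S (r i) • ((1 : S) ⊗ₜ[R] m i) = 0 := by
    simp_rw [algebraMap_smul, ← TensorProduct.tmul_smul, ← TensorProduct.tmul_sum, hrel,
      TensorProduct.tmul_zero]
  obtain ⟨k, s, z, hz, hs⟩ := Module.Flat.isTrivialRelation_of_sum_smul_eq_zero hrel'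
  let π : (M →₀ R) →ₗ[R] M := Finsupp.linearCombination R id
  have hπ : Function.Surjective π := Finsupp.linearCombination_id_surjective R M
  choose w hw using fun j ↦ LinearMap.lTensor_surjective S hπ (z j)
  let g : Fin l → S ⊗[R] (M →₀ R) := fun i ↦ ∑ j, s i j • w j
  have hg₁ : ∀ i, π.lTensor S (g i) = (1 : S) ⊗ₜ[R] m i := fun i ↦ by
    change π.baseChange S (g i) = _
    simp only [g, map_sum, map_smul, hz i]
    exact Finset.sum_congr rfl fun j _ ↦ congrArg _ (hw j)
  have hg₂ : ∑ i, r i • g i = 0 := by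
    simp only [g, Finset.smul_sum, ← algebraMap_smul S (r _), smul_smul]
    rw [Finset.sum_comm]
    simp only [← Finset.sum_smul, hs, zero_smul, Finset.sum_const_zero]
  let Ψ : (Fin l → M →₀ R) →ₗ[R] (Fin l → M) × (M →₀ R) :=
    LinearMap.prod (π.compLeft (Fin l)) (∑ i, r i • LinearMap.proj i)
  have hΨ : ∀ i, Ψ.comp (LinearMap.single R _ i) =
      ((LinearMap.inl R _ _).comp (LinearMap.single R (fun _ : Fin l ↦ M) i)).comp π +
        r i • LinearMap.inr R _ _ := fun i ↦ by
    apply LinearMap.ext; intro f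
    refine Prod.ext ?_ ?_
    · ext j
      by_cases hj : j = i
      · subst hj; simp [Ψ]
      · simp [Ψ, hj]
    · simp [Ψ, Pi.single_apply]
  have hmem : (1 : S) ⊗ₜ[R] ((m, 0) : (Fin l → M) × (M →₀ R)) ∈
      LinearMap.range (Ψ.lTensor S) := by
    refine ⟨∑ i, (LinearMap.single R (fun _ : Fin l ↦ M →₀ R) i).lTensor S (g i), ?_⟩
    show Ψ.lTensor S _ = _
    rw [map_sum]
    simp only [← LinearMap.lTensor_comp_apply, hΨ, LinearMap.lTensor_add,
      LinearMap.lTensor_smul, LinearMap.add_apply, LinearMap.smul_apply, Finset.sum_add_distrib,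
      ← map_smul, ← map_sum, hg₂, map_zero, add_zero]
    simp only [LinearMap.lTensor_comp_apply _ _ π, hg₁, LinearMap.lTensor_tmul,
      ← TensorProduct.tmul_sum]
    congr 1
    simp [Prod.ext_iff, Prod.fst_sum, Prod.snd_sum, Finset.univ_sum_single]
  obtain ⟨f, hf⟩ := mem_range_of_one_tmul_mem_range h Ψ _ hmem
  have hf₁ : ∀ i, π (f i) = m i := fun i ↦ congrFun (congrArg Prod.fst hf) i
  have hf₂ : ∑ i, r i • f i = 0 := by
    have := congrArg Prod.snd hf
    simpa [Ψ] using this
  let J := Finset.univ.biUnion fun i ↦ (f i).support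
  let e := (Fintype.equivFin J).symm
  refine ⟨Fintype.card J, fun i j ↦ f i (e j : M), fun j ↦ (e j : M), fun i ↦ ?_, fun j ↦ ?_⟩
  · rw [← hf₁ i, Equiv.sum_comp e (fun y : J ↦ f i (y : M) • (y : M)),
      Finset.sum_coe_sort J (fun y ↦ f i y • y)]
    rw [Finsupp.linearCombination_apply, Finsupp.sum_of_support_subset (s := J)]
    · simp
    · exact Finset.subset_biUnion_of_mem (fun i ↦ (f i).support) (Finset.mem_univ i)
    · simp
  · simpa [Finsupp.finsetSum_apply] using congrArg (fun F : M →₀ R ↦ F (e j : M)) hf₂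

/-- Finite generation descends. -/
lemma finite (h : Pi1.UnivInjective R S) (M : Type u) [AddCommGroup M] [Module R M]
    [Module.Finite S (S ⊗[R] M)] : Module.Finite R M := by
  classical
  obtain ⟨t, ht⟩ := (Module.finite_def (R := S) (M := S ⊗[R] M)).mp inferInstance
  obtain ⟨N, hN, hsub⟩ :=
    TensorProduct.exists_finite_submodule_right_of_setFinite (t : Set (S ⊗[R] M)) t.finite_toSet
  have : Function.Surjective (N.subtype.lTensor S) := by
    have hle : Submodule.span S (t : Set (S ⊗[R] M)) ≤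
        LinearMap.range (N.subtype.baseChange S) := by
      rw [Submodule.span_le]
      exact fun x hx ↦ hsub hx
    rw [ht] at hle
    exact fun x ↦ hle Submodule.mem_top
  exact Module.Finite.of_surjective N.subtype (surjective_of_lTensor_surjective h _ this)

/-- Finite presentation descends. -/
lemma finitePresentation (h : Pi1.UnivInjective R S) (M : Type u) [AddCommGroup M] [Module R M]
    [Module.FinitePresentation S (S ⊗[R] M)] : Module.FinitePresentation R M := by
  classical
  have := finite h M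
  obtain ⟨n, π, hπ⟩ := Module.Finite.exists_fin' R M
  refine Module.finitePresentation_of_surjective π hπ ?_
  have hfg : (LinearMap.ker (π.baseChange S)).FG :=
    Module.FinitePresentation.fg_ker _ (LinearMap.lTensor_surjective S hπ)
  have hex := lTensor_exact (f := (LinearMap.ker π).subtype) (g := π) S
    (LinearMap.exact_subtype_ker_map π) hπ
  obtain ⟨t, ht⟩ := hfg
  have hlift : ∀ x : t, ∃ y, (LinearMap.ker π).subtype.lTensor S y = (x : S ⊗[R] (Fin n → R)) :=
    fun x ↦ (hex _).mp (by
      have : (x : S ⊗[R] (Fin n → R)) ∈ LinearMap.ker (π.baseChange S) :=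
        ht ▸ Submodule.subset_span x.2
      exact this)
  choose y hy using hlift
  obtain ⟨N, hN, hsub⟩ := TensorProduct.exists_finite_submodule_right_of_setFinite
    (Set.range y) (Set.finite_range y)
  suffices LinearMap.ker π = N.map (LinearMap.ker π).subtype by
    rw [this]; exact (Module.Finite.iff_fg.mp hN).map _
  refine le_antisymm (fun x hx ↦ ?_) (Submodule.map_subtype_le _ _)
  let Ψ : N →ₗ[R] (Fin n → R) := (LinearMap.ker π).subtype.comp N.subtype
  have hmem := mem_range_of_one_tmul_mem_range h (A := ↥N) Ψ x ?_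
  · obtain ⟨w, hw⟩ := hmem
    exact ⟨w, w.2, hw⟩
  have hle : Submodule.span S (t : Set (S ⊗[R] (Fin n → R))) ≤
      LinearMap.range (((LinearMap.ker π).subtype.comp N.subtype).baseChange S) := by
    rw [Submodule.span_le]
    intro z hz
    obtain ⟨w, hw⟩ := hsub ⟨⟨z, hz⟩, rfl⟩
    refine ⟨w, ?_⟩
    change ((LinearMap.ker π).subtype.comp N.subtype).lTensor S w = z
    rw [LinearMap.lTensor_comp_apply]
    exact (congrArg _ hw).trans (hy ⟨z, hz⟩)
  rw [ht] at hle
  have : (1 : S) ⊗ₜ[R] x ∈ LinearMap.ker (π.baseChange S) := by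
    simp [LinearMap.mem_ker.mp hx]
  exact hle this

/-- Finite type descends. -/
lemma finiteType (h : Pi1.UnivInjective R S) (A : Type u) [CommRing A] [Algebra R A]
    [Algebra.FiniteType S (S ⊗[R] A)] : Algebra.FiniteType R A := by
  classical
  obtain ⟨t, ht⟩ := Algebra.FiniteType.out (R := S) (A := S ⊗[R] A)
  obtain ⟨N, hN, hsub⟩ :=
    TensorProduct.exists_finite_submodule_right_of_setFinite (t : Set (S ⊗[R] A)) t.finite_toSet
  obtain ⟨g, hg⟩ := Module.Finite.iff_fg.mp hN
  let A₀ : Subalgebra R A := Algebra.adjoin R (g : Set A)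
  have hNA : N ≤ Subalgebra.toSubmodule A₀ := by
    rw [← hg]
    exact Submodule.span_le.mpr Algebra.subset_adjoin
  let φ : S ⊗[R] A₀ →ₐ[S] S ⊗[R] A := Algebra.TensorProduct.map (AlgHom.id S S) A₀.val
  have hφ : ∀ x, A₀.val.toLinearMap.lTensor S x = φ x := fun x ↦ by
    induction x with
    | zero => simp
    | tmul a b => simp [φ]
    | add a b ha hb => simp [ha, hb]
  have hle : Algebra.adjoin S (t : Set (S ⊗[R] A)) ≤ φ.range := by
    refine Algebra.adjoin_le fun x hx ↦ ?_
    obtain ⟨w, hw⟩ := hsub hx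
    refine ⟨(Submodule.inclusion hNA).lTensor S w, ?_⟩
    change φ _ = x
    rw [← hφ, ← LinearMap.lTensor_comp_apply]
    exact hw
  rw [ht] at hle
  have hsurj : Function.Surjective (A₀.val.toLinearMap.lTensor S) := fun x ↦ by
    obtain ⟨w, hw⟩ := hle (Algebra.mem_top (x := x))
    exact ⟨w, (hφ w).trans hw⟩
  refine ⟨⟨g, eq_top_iff.mpr fun a _ ↦ ?_⟩⟩
  obtain ⟨b, hb⟩ := surjective_of_lTensor_surjective h _ hsurj a
  rw [← hb]
  exact b.2

end Groth.Agent.UnivInj
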