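import Groth.Agent.UnivInj.Descent

/-!
# Descent of finite presentation and étaleness of algebras along universally injective maps
-/

set_option autoImplicit false
universe u
open scoped TensorProduct

namespace Groth.Agent.UnivInj

variable {R S : Type u} [CommRing R] [CommRing S] [Algebra R S]

/-- Finite presentation of algebras descends. -/
lemma algFinitePresentation (h : Pi1.UnivInjective R S) (A : Type u) [CommRing A] [Algebra R A]
    [Algebra.FinitePresentation S (S ⊗[R] A)] : Algebra.FinitePresentation R A := by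
  classical
  have := finiteType h A
  obtain ⟨n, f, hf⟩ := Algebra.FiniteType.iff_quotient_mvPolynomial''.mp this
  let P := MvPolynomial (Fin n) R
  let fT : S ⊗[R] P →ₐ[S] S ⊗[R] A := Algebra.TensorProduct.map (AlgHom.id S S) f
  have hfT : Function.Surjective fT := Algebra.FiniteType.baseChangeAux_surj S hf
  obtain ⟨t, ht⟩ := Algebra.FinitePresentation.ker_fG_of_surjective fT hfT
  have hker : RingHom.ker fT.toRingHom = (RingHom.ker f.toRingHom).map
      (Algebra.TensorProduct.includeRight : P →ₐ[R] S ⊗[R] P) :=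
    Algebra.TensorProduct.lTensor_ker f hf
  have hlift : ∀ x : t, ∃ y, ((RingHom.ker f.toRingHom).restrictScalars R).subtype.lTensor S y
      = (x : S ⊗[R] P) := fun x ↦ by
    have hx : (x : S ⊗[R] P) ∈ RingHom.ker fT.toRingHom := ht ▸ Submodule.subset_span x.2
    rw [hker] at hx
    exact (Ideal.map_includeRight_eq (RingHom.ker f.toRingHom)).le hx
  choose y hy using hlift
  obtain ⟨N, hN, hsub⟩ := TensorProduct.exists_finite_submodule_right_of_setFinite
    (Set.range y) (Set.finite_range y)
  let N' : Submodule R P := N.map ((RingHom.ker f.toRingHom).restrictScalars R).subtype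
  obtain ⟨g, hg⟩ := (Module.Finite.iff_fg.mp hN).map
    ((RingHom.ker f.toRingHom).restrictScalars R).subtype
  let J : Ideal P := Ideal.span (g : Set P)
  refine Algebra.FinitePresentation.of_surjective hf ⟨g, ?_⟩
  change J = RingHom.ker f.toRingHom
  have hgI : (g : Set P) ⊆ RingHom.ker f.toRingHom := fun z hz ↦ by
    have : z ∈ N' := hg.le (Submodule.subset_span hz)
    obtain ⟨⟨w, hw⟩, -, rfl⟩ := this
    exact hw
  refine le_antisymm (Ideal.span_le.mpr hgI) fun x hx ↦ ?_
  have hNJ : N' ≤ J.restrictScalars R := by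
    rw [show N' = Submodule.span R (g : Set P) from hg.symm]
    exact Submodule.span_le.mpr Submodule.subset_span
  have hle : RingHom.ker fT.toRingHom ≤
      J.map (Algebra.TensorProduct.includeRight : P →ₐ[R] S ⊗[R] P) := by
    refine ht.symm.le.trans ?_
    refine Submodule.span_le.mpr fun z hz ↦ ?_
    apply (Ideal.map_includeRight_eq J).ge
    obtain ⟨w, hw⟩ := hsub ⟨⟨z, hz⟩, rfl⟩
    let ι : N →ₗ[R] J.restrictScalars R :=
      (((RingHom.ker f.toRingHom).restrictScalars R).subtype.comp N.subtype).codRestrict _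
        fun v ↦ hNJ ⟨v, v.2, rfl⟩
    refine ⟨ι.lTensor S w, ?_⟩
    rw [← LinearMap.lTensor_comp_apply, LinearMap.subtype_comp_codRestrict,
      LinearMap.lTensor_comp_apply]
    exact (congrArg _ hw).trans (hy ⟨z, hz⟩)
  have hmem : (1 : S) ⊗ₜ[R] x ∈ RingHom.ker fT.toRingHom := by
    rw [RingHom.mem_ker] at hx ⊢
    change fT _ = 0
    simp only [fT, Algebra.TensorProduct.map_tmul]
    rw [show f x = 0 from hx, TensorProduct.tmul_zero]
  obtain ⟨w, hw⟩ := mem_range_of_one_tmul_mem_range h (A := ↥(J.restrictScalars R))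
    (J.restrictScalars R).subtype x ((Ideal.map_includeRight_eq J).le (hle hmem))
  exact hw ▸ w.2

/-- Étaleness descends. -/
lemma etale (h : Pi1.UnivInjective R S) (A : Type u) [CommRing A] [Algebra R A]
    [Algebra.Etale S (S ⊗[R] A)] : Algebra.Etale R A := by
  have := algFinitePresentation h A
  have := flat h A
  have : Algebra.FormallyUnramified R A := by
    refine ⟨?_⟩
    let : Algebra A (S ⊗[R] A) := Algebra.TensorProduct.rightAlgebra
    have : Subsingleton (S ⊗[R] Ω[A⁄R]) :=
      (KaehlerDifferential.tensorKaehlerEquivBase R S A (S ⊗[R] A)).toEquiv.subsingleton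
    refine ⟨fun a b ↦ ?_⟩
    have hs : Function.Surjective (LinearMap.lTensor S (0 : Ω[A⁄R] →ₗ[R] Ω[A⁄R])) :=
      fun v ↦ ⟨0, Subsingleton.elim _ _⟩
    obtain ⟨a', rfl⟩ := surjective_of_lTensor_surjective h _ hs a
    obtain ⟨b', rfl⟩ := surjective_of_lTensor_surjective h _ hs b
    simp
  exact Algebra.Etale.of_formallyUnramified_of_flat

end Groth.Agent.UnivInj
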